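import Mathlib
import Groth.Agent.DenseVal.MonoRefl
import Groth.Prelude.Def_EGA4Misc

/-!
# Radicial at a point: reformulation through the fibre
-/

set_option autoImplicit false

universe u

open CategoryTheory CategoryTheory.Limits AlgebraicGeometry

namespace Groth.Agent.RadPtLib

lemma isPurelyInseparable_of_comp {F E K : Type*} [Field F] [Field E] [Field K] {f : F →+* E}
    {g : E →+* K} (h : (g.comp f).IsPurelyInseparable) :
    f.IsPurelyInseparable ∧ g.IsPurelyInseparable := by
  letI := f.toAlgebra
  letI := g.toAlgebra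
  letI := (g.comp f).toAlgebra
  haveI : IsScalarTower F E K := IsScalarTower.of_algebraMap_eq fun _ => rfl
  haveI : IsPurelyInseparable F K := h
  exact ⟨IsPurelyInseparable.tower_bot F E K, IsPurelyInseparable.tower_top F E K⟩

/-- Purely inseparable, as a property of morphisms of the residue fields. -/
def PI {A B : CommRingCat.{u}} (φ : A ⟶ B) : Prop := φ.hom.IsPurelyInseparable

variable {A B C : CommRingCat.{u}}

lemma PI.of_isIso (hA : IsField A) (hB : IsField B) (φ : A ⟶ B) [IsIso φ] : PI φ := by
  letI := hA.toField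
  letI := hB.toField
  have h : ((inv φ).hom.comp φ.hom).IsPurelyInseparable := by
    rw [← CommRingCat.hom_comp, IsIso.hom_inv_id, CommRingCat.hom_id]
    exact RingHom.IsPurelyInseparable.id _
  exact (isPurelyInseparable_of_comp h).1

lemma pi_comp_iff (hA : IsField A) (hB : IsField B) (hC : IsField C) (φ : A ⟶ B) (ψ : B ⟶ C) :
    PI (φ ≫ ψ) ↔ PI φ ∧ PI ψ := by
  letI := hA.toField
  letI := hB.toField
  letI := hC.toField
  refine ⟨fun h => ?_, fun h => ?_⟩
  · exact isPurelyInseparable_of_comp (f := φ.hom) (g := ψ.hom) h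
  · exact RingHom.IsPurelyInseparable.comp (f := φ.hom) (g := ψ.hom) h.1 h.2

variable {X Y : Scheme.{u}} (f : X ⟶ Y) (y : Y)

lemma pi_fiber_iff (z : f.fiber y) :
    PI ((f.fiberToSpecResidueField y).residueFieldMap z) ↔
      PI (f.residueFieldMap (f.fiberι y z)) := by
  haveI hm : Mono (Y.fromSpecResidueField y) := inferInstance
  haveI : Mono (f.fiberι y) := MorphismProperty.pullback_fst (P := MorphismProperty.monomorphisms _) _ _ hm
  haveI := DenseVal.isIso_residueFieldMap_of_mono (f.fiberι y) z
  haveI := DenseVal.isIso_residueFieldMap_of_mono (Y.fromSpecResidueField y)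
    (f.fiberToSpecResidueField y z)
  have hc := Scheme.Hom.residueFieldMap_congr (f.fiber_fac y) z
  rw [Scheme.residueFieldMap_comp, Scheme.residueFieldMap_comp] at hc
  have F : ∀ {S : Scheme.{u}} (s : S), IsField (S.residueField s) := fun s => Field.toIsField _
  have h1 : PI (f.residueFieldMap (f.fiberι y z) ≫ (f.fiberι y).residueFieldMap z) ↔
      PI (f.residueFieldMap (f.fiberι y z)) :=
    (pi_comp_iff (F _) (F _) (F _) _ _).trans
      (and_iff_left (PI.of_isIso (F _) (F _) _))
  have h2 : PI ((Y.fromSpecResidueField y).residueFieldMap (f.fiberToSpecResidueField y z) ≫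
      (f.fiberToSpecResidueField y).residueFieldMap z) ↔
      PI ((f.fiberToSpecResidueField y).residueFieldMap z) :=
    (pi_comp_iff (F _) (F _) (F _) _ _).trans
      (and_iff_right (PI.of_isIso (F _) (F _) _))
  rw [← h1, hc]
  exact h2.symm.trans ((and_iff_right (PI.of_isIso (F _) (F _) _)).symm.trans
    (pi_comp_iff (F _) (F _) (F _) _ _).symm)

/-- `f` is radicial at `y` iff its fibre is universally injective over `κ(y)`. -/
theorem isRadicialAt_iff :
    RadPt.IsRadicialAt f y ↔ UniversallyInjective (f.fiberToSpecResidueField y) := by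
  have ht : UniversallyInjective (f.fiberToSpecResidueField y) ↔
      Function.Injective (f.fiberToSpecResidueField y) ∧
        ∀ z, ((f.fiberToSpecResidueField y).residueFieldMap z).hom.IsPurelyInseparable :=
    (tfae_universallyInjective (f.fiberToSpecResidueField y)).out 0 2
  rw [ht]
  refine ⟨fun h => ⟨fun z z' _ => ?_, fun z => ?_⟩, fun h => ⟨fun x x' hx hx' => ?_, fun x hx => ?_⟩⟩
  · have hz : ∀ z : f.fiber y, f (f.fiberι y z) = y := fun z =>
      (f.range_fiberι y).subset (Set.mem_range_self z)
    exact (f.fiberι y).isEmbedding.injective (h.1 _ _ (hz z) (hz z'))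
  · exact (pi_fiber_iff f y z).2 (h.2 _ ((f.range_fiberι y).subset (Set.mem_range_self z)))
  · obtain ⟨z, rfl⟩ := (f.range_fiberι y).superset hx
    obtain ⟨z', rfl⟩ := (f.range_fiberι y).superset hx'
    rw [h.1 ((Scheme.Hom.fiberToSpecResidueField_apply f y z).trans
      (Scheme.Hom.fiberToSpecResidueField_apply f y z').symm)]
  · obtain ⟨z, rfl⟩ := (f.range_fiberι y).superset hx
    exact (pi_fiber_iff f y z).1 (h.2 z)

/-- Radiciality at a point is insensitive to base change. -/
theorem isRadicialAt_iff_of_isPullback {X' Y' : Scheme.{u}} {h : Y' ⟶ Y} {f' : X' ⟶ Y'}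
    {h' : X' ⟶ X} (sq : IsPullback h' f' f h) (y' : Y') :
    RadPt.IsRadicialAt f (h y') ↔ RadPt.IsRadicialAt f' y' := by
  rw [isRadicialAt_iff, isRadicialAt_iff]
  have hsq := isPullback_fiberToSpecResidueField_of_isPullback sq y'
  refine ⟨fun hp => MorphismProperty.of_isPullback hsq hp, fun hp => ?_⟩
  have hQ : (@Surjective ⊓ @Flat ⊓ @QuasiCompact : MorphismProperty Scheme.{u})
      (Spec.map (h.residueFieldMap y')) := by
    refine ⟨⟨⟨fun s => ⟨IsLocalRing.closedPoint _, Subsingleton.elim _ _⟩⟩, ?_⟩, inferInstance⟩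
    rw [HasRingHomProperty.Spec_iff (P := @Flat)]
    algebraize [(h.residueFieldMap y').hom]
    exact Module.Flat.of_free
  exact MorphismProperty.of_isPullback_of_descendsAlong (P := @UniversallyInjective) hsq.flip hQ hp

end Groth.Agent.RadPtLib
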